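import Mathlib.AlgebraicGeometry.Properties
import Mathlib.AlgebraicGeometry.FunctionField
import Mathlib.AlgebraicGeometry.Noetherian
import Mathlib.AlgebraicGeometry.Morphisms.FiniteType
import Mathlib.AlgebraicGeometry.Morphisms.Flat
import Mathlib.AlgebraicGeometry.Morphisms.UniversallyClosed
import Groth.Agent.Lib.Dim.Morphism
import Mathlib.RingTheory.DiscreteValuationRing.TFAE
import Mathlib.RingTheory.Flat.TorsionFree
import Mathlib.RingTheory.KrullDimension.Field

/-!
# Points of integral one-dimensional schemes
-/

universe u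

open CategoryTheory Limits AlgebraicGeometry TopologicalSpace Topology Order

namespace GrothLib.CurvePoints

variable {X : Scheme.{u}} [IsIntegral X]

theorem lt_genericPoint {x : X} (hx : x ≠ genericPoint X) : x < genericPoint X :=
  lt_iff_le_not_ge.2 ⟨(genericPoint_spec X).specializes trivial, fun h =>
    hx (((genericPoint_spec X).specializes trivial).antisymm h).eq.symm⟩

theorem krullDim_points_eq (T : Type*) [TopologicalSpace T] [QuasiSober T] [T0Space T] :
    letI := specializationPreorder T
    Order.krullDim T = topologicalKrullDim T :=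
  letI := specializationPreorder T
  (Order.krullDim_eq_of_orderIso irreducibleSetEquivPoints).symm

theorem not_lt_lt (hd : topologicalKrullDim X ≤ 1) {x y z : X} (h₁ : x < y) (h₂ : y < z) : False := by
  let c : LTSeries X := ((RelSeries.singleton _ x).snoc y h₁).snoc z (by simpa using h₂)
  have h := (LTSeries.length_le_krullDim c).trans ((Order.krullDim_eq_of_orderIso
    (irreducibleSetEquivPoints (α := ↥X))).symm.le.trans hd)
  simp [c] at h

theorem isClosed_singleton (hd : topologicalKrullDim X ≤ 1) {x : X} (hx : x ≠ genericPoint X) :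
    IsClosed ({x} : Set X) := by
  refine isClosed_of_closure_subset fun z hz => ?_
  by_contra hne
  have hzx : z ≤ x := (specializes_iff_mem_closure.2 hz)
  exact not_lt_lt hd (lt_iff_le_not_ge.2 ⟨hzx, fun h => hne ((Specializes.antisymm hzx h).eq.symm)⟩)
    (lt_genericPoint hx)

theorem genericPoint_not_isClosed (hd : topologicalKrullDim X = 1) :
    ¬ IsClosed ({genericPoint X} : Set X) := by
  intro h
  have hs : Subsingleton X := ⟨fun a b => by
    have e : closure ({genericPoint X} : Set X) = Set.univ := genericPoint_spec X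
    rw [h.closure_eq] at e
    have ha : a ∈ ({genericPoint X} : Set X) := e ▸ Set.mem_univ a
    have hb : b ∈ ({genericPoint X} : Set X) := e ▸ Set.mem_univ b
    exact ha.trans hb.symm⟩
  have h0 : Order.krullDim X ≤ 0 := Order.krullDim_nonpos_iff_forall_isMax.2
    fun a b _ => (hs.elim b a).le
  have := ((Order.krullDim_eq_of_orderIso (irreducibleSetEquivPoints (α := ↥X))).le.trans h0)
  exact absurd (hd.symm.trans_le this) (by norm_num)

theorem isClosed_singleton_iff (hd : topologicalKrullDim X = 1) {x : X} :
    IsClosed ({x} : Set X) ↔ x ≠ genericPoint X :=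
  ⟨fun h e => genericPoint_not_isClosed hd (e ▸ h), isClosed_singleton hd.le⟩

theorem finite_of_isClosed [NoetherianSpace X] (hd : topologicalKrullDim X ≤ 1) {Z : Set X}
    (hZ : IsClosed Z) (hη : genericPoint X ∉ Z) : Z.Finite := by
  obtain ⟨S, hS, hSirr, hcl, hcov⟩ := NoetherianSpace.exists_finite_set_isClosed_irreducible hZ
  rw [hcov]
  refine hS.sUnion fun C hC => ?_
  obtain ⟨c, hc⟩ := QuasiSober.sober (hcl C hC) (hSirr C hC)
  have hcne : c ≠ genericPoint X := by
    rintro rfl
    exact hη (hcov ▸ Set.subset_sUnion_of_mem hC hc.mem)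
  rw [← hc.def, (isClosed_singleton hd hcne).closure_eq]
  exact Set.finite_singleton c

theorem isOpen_of_finite_compl (hd : topologicalKrullDim X ≤ 1) {U : Set X} (h : Uᶜ.Finite)
    (hη : genericPoint X ∈ U) : IsOpen U := by
  rw [← isClosed_compl_iff, ← Set.biUnion_of_singleton Uᶜ]
  exact h.isClosed_biUnion fun x hx => isClosed_singleton hd fun e => hx (e ▸ hη)

theorem coheight_eq_one (hd : topologicalKrullDim X ≤ 1) {x : X} (hx : x ≠ genericPoint X) :
    Order.coheight x = 1 := by
  refine le_antisymm ?_ ?_
  · have h := (Order.coheight_le_krullDim x).trans ((Order.krullDim_eq_of_orderIso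
      (irreducibleSetEquivPoints (α := ↥X))).symm.le.trans hd)
    exact_mod_cast h
  · rw [ENat.one_le_iff_ne_zero, ne_eq, Order.coheight_eq_zero]
    exact fun h => (lt_genericPoint hx).not_ge (h (lt_genericPoint hx).le)

theorem ringKrullDim_stalk (hd : topologicalKrullDim X ≤ 1) {x : X} (hx : x ≠ genericPoint X) :
    ringKrullDim (X.presheaf.stalk x) = 1 := by
  rw [ringKrullDim_stalk_eq_coheight, coheight_eq_one hd hx]; rfl

theorem isField_stalk_genericPoint : IsField (X.presheaf.stalk (genericPoint X)) :=
  Field.toIsField X.functionField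

theorem isDiscreteValuationRing_stalk [IsLocallyNoetherian X] (hd : topologicalKrullDim X ≤ 1)
    {x : X} (hx : x ≠ genericPoint X) (hN : IsIntegrallyClosed (X.presheaf.stalk x)) :
    IsDiscreteValuationRing (X.presheaf.stalk x) := by
  have h1 := ringKrullDim_stalk hd hx
  have : Ring.KrullDimLE 1 (X.presheaf.stalk x) := Ring.krullDimLE_iff.2 h1.le
  have : Ring.DimensionLEOne (X.presheaf.stalk x) := ⟨fun hp hp' =>
    Ideal.IsPrime.isMaximal_of_ne_bot hp' hp⟩
  have hnf : ¬ IsField (X.presheaf.stalk x) := fun hF => by
    rw [ringKrullDim_eq_zero_of_isField hF] at h1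
    exact zero_ne_one h1
  have : IsDedekindDomain (X.presheaf.stalk x) := {}
  exact ((IsDiscreteValuationRing.TFAE _ hnf).out 0 2).2 this

variable {Y : Scheme.{u}} [IsIntegral Y]

theorem map_genericPoint_of_nontrivial (hd : topologicalKrullDim Y ≤ 1) (f : X ⟶ Y)
    (h : (Set.range f).Nontrivial) : f (genericPoint X) = genericPoint Y := by
  by_contra hne
  have hc := isClosed_singleton hd hne
  obtain ⟨_, ⟨a, rfl⟩, _, ⟨b, rfl⟩, hab⟩ := h
  have key : ∀ c : X, f c = f (genericPoint X) := fun c =>
    Set.mem_singleton_iff.1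
      ((((genericPoint_spec X).specializes (y := c) trivial).map f.continuous).mem_closed hc rfl)
  exact hab ((key a).trans (key b).symm)

theorem finite_preimage [NoetherianSpace X] (hdX : topologicalKrullDim X ≤ 1)
    (hdY : topologicalKrullDim Y ≤ 1) (f : X ⟶ Y) (e : f (genericPoint X) = genericPoint Y) {y : Y}
    (hy : y ≠ genericPoint Y) : (f ⁻¹' {y}).Finite :=
  finite_of_isClosed hdX ((isClosed_singleton hdY hy).preimage f.continuous)
    (fun h => hy ((Set.mem_singleton_iff.1 h).symm.trans e))

theorem preimage_genericPoint (hdY : topologicalKrullDim Y = 1) (hdX : topologicalKrullDim X ≤ 1)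
    (f : X ⟶ Y) [QuasiCompact f] (e : f (genericPoint X) = genericPoint Y)
    (hclosed : ∀ x : X, IsClosed ({x} : Set X) → IsClosed ({f x} : Set Y)) :
    f ⁻¹' {genericPoint Y} = {genericPoint X} := by
  refine Set.Subset.antisymm (fun x hx => ?_) (fun x hx => by rw [hx]; exact e)
  by_contra hne
  have := hclosed x (isClosed_singleton hdX hne)
  rw [hx] at this
  exact genericPoint_not_isClosed hdY this

theorem stalkSpecializes_injective {y' y : Y} (e : y' = genericPoint Y) (h : y' ⤳ y) :
    Function.Injective (Y.presheaf.stalkSpecializes h).hom := by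
  subst e
  exact IsFractionRing.injective (Y.presheaf.stalk y) Y.functionField

theorem stalkMap_injective (f : X ⟶ Y) (e : f (genericPoint X) = genericPoint Y) (x : X) :
    Function.Injective (f.stalkMap x).hom := by
  have hs : genericPoint X ⤳ x := (genericPoint_spec X).specializes trivial
  have h := Scheme.Hom.stalkSpecializes_stalkMap f (genericPoint X) x hs
  intro a b hab
  have h2 : Function.Injective (Y.presheaf.stalkSpecializes (hs.map f.continuous) ≫ f.stalkMap (genericPoint X)).hom := by
    rw [CommRingCat.hom_comp, RingHom.coe_comp]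
    refine Function.Injective.comp ?_ ?_
    · have hF : IsField (Y.presheaf.stalk (f (genericPoint X))) := by rw [e]; exact isField_stalk_genericPoint
      let := hF.toField
      exact (f.stalkMap (genericPoint X)).hom.injective
    · exact stalkSpecializes_injective e _
  apply h2
  rw [h]
  exact congrArg (X.presheaf.stalkSpecializes hs).hom hab

end GrothLib.CurvePoints

namespace GrothLib.CurvePoints

variable {X Y : Scheme.{u}} [IsIntegral X] [IsIntegral Y]

theorem flat_stalkMap [IsLocallyNoetherian Y] (hdY : topologicalKrullDim Y ≤ 1)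
    (hN : ∀ y : Y, IsIntegrallyClosed (Y.presheaf.stalk y)) (f : X ⟶ Y)
    (e : f (genericPoint X) = genericPoint Y) (x : X) : (f.stalkMap x).hom.Flat := by
  have hinj := stalkMap_injective f e x
  let := (f.stalkMap x).hom.toAlgebra
  show Module.Flat (Y.presheaf.stalk (f x)) (X.presheaf.stalk x)
  by_cases hy : f x = genericPoint Y
  · have hF : IsField (Y.presheaf.stalk (f x)) := by rw [hy]; exact isField_stalk_genericPoint
    let := hF.toField
    infer_instance
  · have := isDiscreteValuationRing_stalk hdY hy (hN _)
    have : Module.IsTorsionFree (Y.presheaf.stalk (f x)) (X.presheaf.stalk x) :=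
      Module.isTorsionFree_iff_algebraMap_injective.2 hinj
    infer_instance

theorem flat_of_dominant [IsLocallyNoetherian Y] (hdY : topologicalKrullDim Y ≤ 1)
    (hN : ∀ y : Y, IsIntegrallyClosed (Y.presheaf.stalk y)) (f : X ⟶ Y)
    (e : f (genericPoint X) = genericPoint Y) : Flat f :=
  Flat.of_stalkMap f (flat_stalkMap hdY hN f e)

/-- An injective local homomorphism out of a discrete valuation ring inducing a surjection on
fraction fields is bijective. -/
theorem bijective_of_isDiscreteValuationRing {A B : Type*} [CommRing A] [IsDomain A] [IsDiscreteValuationRing A]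
    [CommRing B] [IsLocalRing B] (φ : A →+* B) [IsLocalHom φ] (hinj : Function.Injective φ)
    (hfrac : ∀ b : B, ∃ a s : A, s ≠ 0 ∧ b * φ s = φ a) [IsDomain B] : Function.Bijective φ := by
  refine ⟨hinj, fun b => ?_⟩
  obtain ⟨a, s, hs, h⟩ := hfrac b
  have hs' : φ s ≠ 0 := fun e => hs (hinj (e.trans (map_zero φ).symm))
  rcases ValuationRing.dvd_total s a with ⟨q, hq⟩ | ⟨q, hq⟩
  · refine ⟨q, mul_right_cancel₀ hs' ?_⟩
    rw [h, hq, map_mul, mul_comm]
  · by_cases ha : a = 0
    · refine ⟨0, mul_right_cancel₀ hs' ?_⟩
      rw [h, ha, map_zero, zero_mul]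
    · -- `b * φ q = 1`
      have hb : b * φ q = 1 := by
        refine mul_right_cancel₀ (fun e => ha (hinj (e.trans (map_zero φ).symm)) : φ a ≠ 0) ?_
        rw [one_mul, mul_assoc, mul_comm (φ q), ← map_mul, ← hq, h]
      obtain ⟨u, hu⟩ := isUnit_of_map_unit φ q (IsUnit.of_mul_eq_one_right _ hb)
      refine ⟨↑u⁻¹, ?_⟩
      rw [← mul_one (φ _), ← hb, mul_comm b, ← mul_assoc, ← map_mul, ← hu, u.inv_mul, map_one, one_mul]

theorem stalkMap_bijective [IsLocallyNoetherian Y] (hdY : topologicalKrullDim Y ≤ 1)
    (hN : ∀ y : Y, IsIntegrallyClosed (Y.presheaf.stalk y)) (f : X ⟶ Y)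
    (e : f (genericPoint X) = genericPoint Y) (hb : Function.Bijective (f.stalkMap (genericPoint X)).hom)
    {x : X} (hx : f x ≠ genericPoint Y) : Function.Bijective (f.stalkMap x).hom := by
  have := isDiscreteValuationRing_stalk hdY hx (hN _)
  refine bijective_of_isDiscreteValuationRing _ (stalkMap_injective f e x) fun b => ?_
  have hs : genericPoint X ⤳ x := (genericPoint_spec X).specializes trivial
  have hsy : f (genericPoint X) ⤳ f x := hs.map f.continuous
  have hK : ∀ c : Y.presheaf.stalk (f (genericPoint X)), ∃ a s : Y.presheaf.stalk (f x), s ≠ 0 ∧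
      c * Y.presheaf.stalkSpecializes hsy s = Y.presheaf.stalkSpecializes hsy a := by
    revert hsy
    rw [e]
    intro hsy c
    obtain ⟨⟨a, s⟩, h⟩ := IsLocalization.surj (nonZeroDivisors (Y.presheaf.stalk (f x)))
      (show Y.functionField from c)
    exact ⟨a, s, nonZeroDivisors.ne_zero s.2, h⟩
  obtain ⟨c, hc⟩ := hb.2 (X.presheaf.stalkSpecializes hs b)
  obtain ⟨a, s, hs0, has⟩ := hK c
  refine ⟨a, s, hs0, stalkSpecializes_injective (Y := X) rfl hs ?_⟩
  have key : ∀ t, X.presheaf.stalkSpecializes hs (f.stalkMap x t) =
      f.stalkMap (genericPoint X) (Y.presheaf.stalkSpecializes hsy t) :=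
    fun t => (congr($(Scheme.Hom.stalkSpecializes_stalkMap f (genericPoint X) x hs) t)).symm
  show X.presheaf.stalkSpecializes hs (b * f.stalkMap x s) = X.presheaf.stalkSpecializes hs (f.stalkMap x a)
  rw [map_mul, key, key, ← has, map_mul]
  exact congrArg (· * _) hc.symm

theorem stalkSpecializes_comp_bijective {y' : Y} {Z : CommRingCat.{u}} (e : y' = genericPoint Y)
    (g : Y.presheaf.stalk y' ⟶ Z)
    (h : Function.Bijective (Y.presheaf.stalkSpecializes (specializes_of_eq e) ≫ g).hom) :
    Function.Bijective g.hom := by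
  subst e
  simpa using h

end GrothLib.CurvePoints

namespace GrothLib.CurvePoints

variable {X Y : Scheme.{u}}

theorem closure_lt_closure {T : Type*} [TopologicalSpace T] [QuasiSober T] {A B : Set T} (hA : IsClosed A)
    (hA' : IsIrreducible A) (hB : IsClosed B) (hB' : IsIrreducible B) (h : A ⊆ B) (hne : A ≠ B) :
    (⟨A, hA', hA⟩ : IrreducibleCloseds T) < ⟨B, hB', hB⟩ :=
  lt_of_le_of_ne h fun e => hne (congrArg (fun C : IrreducibleCloseds T => (C : Set T)) e)

/-- In a space of dimension at most one, proper irreducible closed subsets of an irreducible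
component are points, and zero dimensional components are points. -/
theorem subsingleton_of_irreducible [NoetherianSpace X] (hd : topologicalKrullDim X ≤ 1) {C Z : Set X}
    (hC : IsClosed C) (hC' : IsIrreducible C) (hZ : IsClosed Z) (hZ' : IsIrreducible Z) (hCZ : C ⊆ Z)
    (hne : C ≠ Z) : C.Subsingleton := by
  obtain ⟨c, hc⟩ := QuasiSober.sober hC' hC
  intro a ha b hb
  suffices key : ∀ z ∈ C, z = c from (key a ha).trans (key b hb).symm
  intro z hz
  by_contra hzc
  have hlt : closure ({z} : Set X) ≠ C := fun e =>
    hzc (IsGenericPoint.eq (show IsGenericPoint z C from e) hc)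
  have h1 := closure_lt_closure isClosed_closure isIrreducible_singleton.closure hC hC'
    (closure_minimal (Set.singleton_subset_iff.2 hz) hC) hlt
  have h2 := closure_lt_closure hC hC' hZ hZ' hCZ hne
  have h := (LTSeries.length_le_krullDim (((RelSeries.singleton _ _).snoc _ h1).snoc _
    (by simpa using h2) : LTSeries (IrreducibleCloseds X))).trans hd
  simp at h

theorem finite_fibre_inter [NoetherianSpace X] (hd : topologicalKrullDim X ≤ 1) (f : X ⟶ Y)
    [UniversallyClosed f] {Z : Set X} (hZ : Z ∈ irreducibleComponents X)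
    (h : topologicalKrullDim Z = 1 → (f '' Z).Nontrivial) (y : Y) : (f ⁻¹' {y} ∩ Z).Finite := by
  have hZc := isClosed_of_mem_irreducibleComponents Z hZ
  obtain ⟨η, hη⟩ := QuasiSober.sober hZ.1 hZc
  -- the points of `Z` other than `η` form singleton irreducible closed sets
  have hpts : ∀ C : Set X, IsClosed C → C ⊆ Z → η ∉ C → C.Finite := by
    intro C hC hCZ hηC
    obtain ⟨S, hS, hScl, hSirr, hcov⟩ := NoetherianSpace.exists_finite_set_isClosed_irreducible hC
    rw [hcov]
    refine hS.sUnion fun D hD => Set.Subsingleton.finite ?_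
    exact subsingleton_of_irreducible hd (hScl D hD) (hSirr D hD) hZc hZ.1
      ((Set.subset_sUnion_of_mem hD).trans (hcov ▸ hCZ)) fun e => hηC (hcov ▸
        Set.subset_sUnion_of_mem hD (e ▸ hη.mem))
  by_cases hzero : Z.Subsingleton
  · exact hzero.finite.subset Set.inter_subset_right
  have hclη : closure ({f η} : Set Y) = f '' Z := by
    refine Set.Subset.antisymm (closure_minimal (Set.singleton_subset_iff.2 ⟨η, hη.mem, rfl⟩)
      (f.isClosedMap Z hZc)) ?_
    rintro _ ⟨z, hz, rfl⟩
    exact (specializes_iff_mem_closure.1 ((hη.specializes hz).map f.continuous))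
  have hdimZ : topologicalKrullDim Z = 1 := by
    refine le_antisymm ((topologicalKrullDim_subspace_le X Z).trans hd) ?_
    by_contra hlt
    have h0 : topologicalKrullDim Z ≤ 0 := Order.le_of_lt_succ (not_le.1 hlt)
    exact hzero (Dim.subsingleton_of_dim_eq_zero hZc hZ.1 h0)
  by_cases hy : y = f η
  · -- only points mapping to the generic image
    by_cases hfin : (closure (f ⁻¹' {y} ∩ Z)) = Z
    · -- every point of the fibre is the generic point or closed
      refine (Set.finite_singleton η).subset fun x ⟨hx, hxZ⟩ => ?_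
      by_contra hne
      have hxc : closure ({x} : Set X) = {x} := by
        refine Set.Subset.antisymm (fun z hz => ?_) subset_closure
        exact subsingleton_of_irreducible hd isClosed_closure isIrreducible_singleton.closure hZc hZ.1
          (closure_minimal (Set.singleton_subset_iff.2 hxZ) hZc)
          (fun e => hne (IsGenericPoint.eq (show IsGenericPoint x Z from e) hη)) hz (subset_closure rfl)
      have : IsClosed ({f η} : Set Y) := by
        rw [← hy, ← (show f x = y from hx), ← Set.image_singleton]
        exact f.isClosedMap _ (hxc ▸ isClosed_closure)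
      obtain ⟨a, ha, b, hb, hab⟩ := h hdimZ
      rw [← hclη, this.closure_eq] at ha hb
      exact hab (ha.trans hb.symm)
    · exact (hpts _ isClosed_closure (closure_minimal Set.inter_subset_right hZc) fun hmem => hfin
        (Set.Subset.antisymm (closure_minimal Set.inter_subset_right hZc) (hη.def.symm.subset.trans
          (closure_minimal (Set.singleton_subset_iff.2 hmem) isClosed_closure)))).subset subset_closure
  · refine (hpts _ isClosed_closure (closure_minimal Set.inter_subset_right hZc) fun hmem => hy ?_).subset
      subset_closure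
    -- `η` is in the closure of the fibre
    by_cases hclosed : IsClosed ({y} : Set Y)
    · have : η ∈ f ⁻¹' {y} := (hclosed.preimage f.continuous).closure_subset_iff.2 Set.inter_subset_left hmem
      exact this.symm
    · have : f η ∈ closure ({y} : Set Y) := by
        have := closure_mono (Set.image_mono (Set.inter_subset_left : f ⁻¹' {y} ∩ Z ⊆ f ⁻¹' {y}))
          ((image_closure_subset_closure_image f.continuous) ⟨η, hmem, rfl⟩)
        exact closure_mono (Set.image_preimage_subset f {y}) this
      obtain ⟨x, hx, hxZ⟩ : (f ⁻¹' {y} ∩ Z).Nonempty := closure_nonempty_iff.1 ⟨η, hmem⟩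
      have h' : f η ⤳ y := (show f x = y from hx) ▸ (hη.specializes hxZ).map f.continuous
      exact ((specializes_iff_mem_closure.2 this).antisymm h').eq

end GrothLib.CurvePoints
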