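import Mathlib.AlgebraicGeometry.Morphisms.UniversallyOpen
import Mathlib.AlgebraicGeometry.Morphisms.QuasiFinite
import Mathlib.AlgebraicGeometry.Morphisms.Proper
import Groth.Agent.Lib.CurvePoints.Basic
import Groth.Agent.Lib.SchLoc8.Allied

/-!
# Birational morphisms of curves with normal target
-/

universe u

open CategoryTheory Limits AlgebraicGeometry TopologicalSpace Topology

namespace GrothLib.CurvePoints

variable {X Y : Scheme.{u}} [IsIntegral X] [IsIntegral Y] [IsLocallyNoetherian Y]
  (hdX : topologicalKrullDim X ≤ 1) (hdY : topologicalKrullDim Y ≤ 1)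
  (hN : ∀ y : Y, IsIntegrallyClosed (Y.presheaf.stalk y)) (f : X ⟶ Y)
  (e : f (genericPoint X) = genericPoint Y) (hb : Function.Bijective (f.stalkMap (genericPoint X)).hom)

include hdX e hb in
omit [IsLocallyNoetherian Y] in
theorem map_ne_genericPoint {x : X} (hx : x ≠ genericPoint X) : f x ≠ genericPoint Y := by
  intro hfx
  have hs : genericPoint X ⤳ x := (genericPoint_spec X).specializes trivial
  have hsurj : Function.Surjective (X.presheaf.stalkSpecializes hs).hom := by
    intro c
    obtain ⟨d, rfl⟩ := hb.2 c
    have hiso : Function.Surjective (Y.presheaf.stalkSpecializes (hs.map f.continuous)).hom := by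
      generalize hs.map f.continuous = hsy
      revert hsy
      rw [e, hfx]
      intro hsy d'
      exact ⟨d', by simp⟩
    obtain ⟨t, rfl⟩ := hiso d
    exact ⟨f.stalkMap x t, (congr($(Scheme.Hom.stalkSpecializes_stalkMap f (genericPoint X) x hs) t)).symm⟩
  have hF : IsField (X.presheaf.stalk x) :=
    (RingEquiv.ofBijective _ ⟨stalkSpecializes_injective rfl hs, hsurj⟩).toMulEquiv.isField
      isField_stalk_genericPoint
  have h1 := ringKrullDim_stalk hdX hx
  rw [ringKrullDim_eq_zero_of_isField hF] at h1
  exact zero_ne_one h1

include hdX hdY hN e hb in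
theorem injective_of_birational [X.IsSeparated] : Function.Injective f := by
  intro x₁ x₂ h
  by_cases h₁ : x₁ = genericPoint X
  · by_contra hne
    exact map_ne_genericPoint hdX f e hb (fun e2 => hne (h₁.trans e2.symm)) (by rw [← h, h₁, e])
  by_cases h₂ : x₂ = genericPoint X
  · exact absurd (by rw [h, h₂, e]) (map_ne_genericPoint hdX f e hb h₁)
  have hy := map_ne_genericPoint hdX f e hb h₁
  let Φ : ∀ x : X, Y.presheaf.stalk (f x) →+* X.functionField := fun x =>
    (algebraMap (X.presheaf.stalk x) X.functionField).comp (f.stalkMap x).hom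
  have hrange : ∀ x : X, f x ≠ genericPoint Y →
      (algebraMap (X.presheaf.stalk x) X.functionField).range = (Φ x).range := by
    intro x hx
    ext z
    constructor
    · rintro ⟨b, rfl⟩
      obtain ⟨a, rfl⟩ := (stalkMap_bijective hdY hN f e hb hx).2 b
      exact ⟨a, rfl⟩
    · rintro ⟨a, rfl⟩
      exact ⟨_, rfl⟩
  have hΦ : ∀ (x : X) (a : Y.presheaf.stalk (f x)), Φ x a = f.stalkMap (genericPoint X)
      (Y.presheaf.stalkSpecializes (((genericPoint_spec X).specializes trivial).map f.continuous) a) :=
    fun x a => (congr($(Scheme.Hom.stalkSpecializes_stalkMap f (genericPoint X) x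
      ((genericPoint_spec X).specializes trivial)) a)).symm
  have hsame : (Φ x₁).range = (Φ x₂).range := by
    let Ψ : ∀ y : Y, f (genericPoint X) ⤳ y → Subring X.functionField := fun y hy =>
      ((f.stalkMap (genericPoint X)).hom.comp (Y.presheaf.stalkSpecializes hy).hom).range
    have hΨ : ∀ x, (Φ x).range = Ψ (f x) (((genericPoint_spec X).specializes trivial).map f.continuous) := by
      intro x
      ext z
      constructor <;> rintro ⟨a, rfl⟩ <;> exact ⟨a, by first | exact hΦ x a | exact (hΦ x a).symm⟩
    rw [hΨ, hΨ]
    congr 1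
  have hL : (LocalSubring.range (algebraMap (X.presheaf.stalk x₂) X.functionField)).toSubring =
      (LocalSubring.range (algebraMap (X.presheaf.stalk x₁) X.functionField)).toSubring := by
    show (algebraMap (X.presheaf.stalk x₂) X.functionField).range =
      (algebraMap (X.presheaf.stalk x₁) X.functionField).range
    rw [hrange x₁ hy, hrange x₂ (h ▸ hy), hsame]
  exact SchLoc8.eq_of_allied le_rfl (LocalSubring.toSubring_injective hL).le

include hdX hdY hN e hb in
theorem isOpenImmersion_of_birational [X.IsSeparated] [LocallyOfFinitePresentation f] :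
    IsOpenImmersion f := by
  have : Flat f := flat_of_dominant hdY hN f e
  rw [IsOpenImmersion.iff_isIso_stalkMap]
  refine ⟨IsOpenEmbedding.of_continuous_injective_isOpenMap f.continuous
    (injective_of_birational hdX hdY hN f e hb) f.isOpenMap, fun x => ?_⟩
  rw [ConcreteCategory.isIso_iff_bijective]
  by_cases hx : x = genericPoint X
  · subst hx; exact hb
  · exact stalkMap_bijective hdY hN f e hb (map_ne_genericPoint hdX f e hb hx)

include hdX hdY hN e hb in
theorem isIso_of_birational_of_universallyClosed [X.IsSeparated] [LocallyOfFinitePresentation f]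
    [UniversallyClosed f] : IsIso f := by
  have := isOpenImmersion_of_birational hdX hdY hN f e hb
  have hsurj : Function.Surjective f := by
    intro y
    exact ((genericPoint_spec Y).specializes trivial).mem_closed f.isClosedMap.isClosed_range ⟨_, e⟩
  have : Epi f.base := (TopCat.epi_iff_surjective _).2 hsurj
  exact IsOpenImmersion.isIso f

end GrothLib.CurvePoints
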